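import Groth.Agent.HomTanLib.Coef
import Groth.Agent.OmegaAffLib.Universal
import Groth.Prelude.Def_Omega4

/-!
# First order deformations of a morphism as derivations
-/

set_option autoImplicit false
set_option linter.style.haveILetI false
set_option linter.unusedSectionVars false
set_option backward.isDefEq.respectTransparency false
set_option backward.isDefEq.respectTransparency.types false
set_option maxHeartbeats 1000000
universe u

open CategoryTheory CategoryTheory.Limits AlgebraicGeometry TopologicalSpace Opposite IsLocalRing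
open HilbObsLib (str sB)
open HilbGlueLib (up red emb gmap kst D eps E)

noncomputable section

namespace HomTanLib

variable {k : Type u} [Field k] {X Y : Scheme.{u}} {x : X ⟶ ArtFun.Art.specPt k} {yY : Y ⟶ ArtFun.Art.specPt k}
  {f : X ⟶ Y} (hf : f ≫ yY = x)

variable (x yY f) in
/-- The first order deformations of `f`. -/
def Def1 : Type u :=
  {φ : ArtFun.Art.XA x (D k) ⟶ Y //
    φ ≫ yY = pullback.fst x (ArtFun.Art.specOver (D k)) ≫ x ∧ ArtFun.Art.XAincl x (D k) ≫ φ = f}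

theorem le_preimage (φ : Def1 x yY f) (W : Y.Opens) : pre x (f ⁻¹ᵁ W) ≤ φ.1 ⁻¹ᵁ W := by
  intro q hq
  obtain ⟨a, rfl⟩ := HilbObsLib.surjective_incl x (D k) q
  have h : f a ∈ W := pre_le x (f ⁻¹ᵁ W) |> fun _ => by
    have h2 : pullback.fst x (ArtFun.Art.specOver (D k)) (ArtFun.Art.XAincl x (D k) a) ∈ f ⁻¹ᵁ W := hq
    rw [← Scheme.Hom.comp_apply, ArtFun.Art.XAincl_fst] at h2
    exact h2
  show φ.1 (ArtFun.Art.XAincl x (D k) a) ∈ W
  rw [← Scheme.Hom.comp_apply, φ.2.2]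
  exact h

/-- The value of a deformation on a function. -/
def ev (φ : Def1 x yY f) (W : Y.Opens) : Γ(Y, W) →+* Γ(ArtFun.Art.XA x (D k), pre x (f ⁻¹ᵁ W)) :=
  (φ.1.appLE W (pre x (f ⁻¹ᵁ W)) (le_preimage φ W)).hom

theorem rdU_ev (φ : Def1 x yY f) (W : Y.Opens) (s : Γ(Y, W)) : rdU x (f ⁻¹ᵁ W) (ev φ W s) = f.app W s := by
  have h : φ.1.appLE W (pre x (f ⁻¹ᵁ W)) (le_preimage φ W) ≫
      (ArtFun.Art.XAincl x (D k)).appLE (pre x (f ⁻¹ᵁ W)) (f ⁻¹ᵁ W) (pre_le x _) = f.app W := by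
    rw [Scheme.Hom.appLE_comp_appLE]
    simp only [φ.2.2]
    exact f.app_eq_appLE.symm
  exact congr($(h) s)

theorem res_ev (φ : Def1 x yY f) {W W' : Y.Opens} (h : W' ≤ W)
    (h' : pre x (f ⁻¹ᵁ W') ≤ pre x (f ⁻¹ᵁ W)) (s : Γ(Y, W)) :
    (ArtFun.Art.XA x (D k)).presheaf.map (homOfLE h').op (ev φ W s) =
      ev φ W' (Y.presheaf.map (homOfLE h).op s) := by
  have e : φ.1.appLE W (pre x (f ⁻¹ᵁ W)) (le_preimage φ W) ≫
      (ArtFun.Art.XA x (D k)).presheaf.map (homOfLE h').op =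
        Y.presheaf.map (homOfLE h).op ≫ φ.1.appLE W' (pre x (f ⁻¹ᵁ W')) (le_preimage φ W') := by
    rw [Scheme.Hom.appLE_map, Scheme.Hom.map_appLE]
  exact congr($(e) s)

/-- The derivation of a deformation. -/
def derOf (φ : Def1 x yY f) :
    OmegaSh.Der yY ((Scheme.Modules.pushforward f).obj (Coh.structureModule X)) where
  d {W} := (OmegaSh.strSect X (f ⁻¹ᵁ W.unop)).comp ((cfU x (f ⁻¹ᵁ W.unop)).comp (ev φ W.unop).toAddMonoidHom)
  d_mul {W} a b := by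
    show (cfU x (f ⁻¹ᵁ W.unop) (ev φ W.unop (a * b)) : Γ(X, f ⁻¹ᵁ W.unop)) =
      (f.app W.unop).hom a * cfU x (f ⁻¹ᵁ W.unop) (ev φ W.unop b) +
        (f.app W.unop).hom b * cfU x (f ⁻¹ᵁ W.unop) (ev φ W.unop a)
    rw [map_mul, cfU_mul, rdU_ev, rdU_ev]
  d_map {W W'} i s := by
    have h : W'.unop ≤ W.unop := i.unop.le
    have h1 : f ⁻¹ᵁ W'.unop ≤ f ⁻¹ᵁ W.unop := fun _ hz => h hz
    show (cfU x (f ⁻¹ᵁ W'.unop) (ev φ W'.unop (Y.presheaf.map (homOfLE h).op s)) : Γ(X, f ⁻¹ᵁ W'.unop)) =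
      X.presheaf.map (homOfLE h1).op (cfU x (f ⁻¹ᵁ W.unop) (ev φ W.unop s))
    rw [cfU_res x h1, res_ev φ h]
  d_app {V} c := by
    show (cfU x (f ⁻¹ᵁ (yY ⁻¹ᵁ V.unop)) (ev φ (yY ⁻¹ᵁ V.unop) ((yY.app V.unop).hom c)) :
      Γ(X, f ⁻¹ᵁ (yY ⁻¹ᵁ V.unop))) = 0
    have hV : pre x (f ⁻¹ᵁ (yY ⁻¹ᵁ V.unop)) ≤ (φ.1 ≫ yY) ⁻¹ᵁ V.unop := le_preimage φ (yY ⁻¹ᵁ V.unop)
    have hx : f ⁻¹ᵁ (yY ⁻¹ᵁ V.unop) ≤ x ⁻¹ᵁ V.unop := fun q hq => by
      have e := φ.2.2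
      have hq' : (f ≫ yY) q ∈ V.unop := hq
      have e2 : f ≫ yY = x := by
        rw [← e, Category.assoc, φ.2.1, ← Category.assoc, ArtFun.Art.XAincl_fst, Category.id_comp]
      rw [e2] at hq'
      exact hq'
    have e : yY.app V.unop ≫ φ.1.appLE (yY ⁻¹ᵁ V.unop) (pre x (f ⁻¹ᵁ (yY ⁻¹ᵁ V.unop))) (le_preimage φ _) =
        x.appLE V.unop (f ⁻¹ᵁ (yY ⁻¹ᵁ V.unop)) hx ≫
          (pullback.fst x (ArtFun.Art.specOver (D k))).appLE (f ⁻¹ᵁ (yY ⁻¹ᵁ V.unop))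
            (pre x (f ⁻¹ᵁ (yY ⁻¹ᵁ V.unop))) le_rfl := by
      rw [yY.app_eq_appLE, Scheme.Hom.appLE_comp_appLE, Scheme.Hom.appLE_comp_appLE]
      simp only [φ.2.1]
    rw [show ev φ (yY ⁻¹ᵁ V.unop) ((yY.app V.unop).hom c) =
      emU x (f ⁻¹ᵁ (yY ⁻¹ᵁ V.unop)) ((x.appLE V.unop _ hx).hom c) from congr($(e) c), cfU_emU]

theorem derOf_app (φ : Def1 x yY f) (W : Y.Opens) (s : Γ(Y, W)) :
    (derOf φ).app W s = OmegaSh.strSect X (f ⁻¹ᵁ W) (cfU x (f ⁻¹ᵁ W) (ev φ W s)) := rfl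

section Back

variable (Dr : OmegaSh.Der yY ((Scheme.Modules.pushforward f).obj (Coh.structureModule X)))

/-- The value of the derivation. -/
def dv (W : Y.Opens) : Γ(Y, W) →+ Γ(X, f ⁻¹ᵁ W) := (OmegaSh.fnSect X (f ⁻¹ᵁ W)).comp (Dr.app W)

theorem dv_mul (W : Y.Opens) (a b : Γ(Y, W)) :
    dv Dr W (a * b) = f.app W a * dv Dr W b + f.app W b * dv Dr W a :=
  congrArg (OmegaSh.fnSect X (f ⁻¹ᵁ W)) (OmegaAffLib.der_mul Dr W a b)

theorem dv_res {W W' : Y.Opens} (h : W' ≤ W) (h1 : f ⁻¹ᵁ W' ≤ f ⁻¹ᵁ W) (s : Γ(Y, W)) :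
    dv Dr W' (Y.presheaf.map (homOfLE h).op s) = X.presheaf.map (homOfLE h1).op (dv Dr W s) :=
  congrArg (OmegaSh.fnSect X (f ⁻¹ᵁ W')) (OmegaAffLib.der_rs Dr h s)

theorem dv_one (W : Y.Opens) : dv Dr W 1 = 0 := by
  have h := dv_mul Dr W 1 1
  simp only [one_mul, map_one] at h
  exact left_eq_add.mp h

/-- The ring map of a derivation. -/
def cmap (W : Y.Opens) : Γ(Y, W) →+* Γ(ArtFun.Art.XA x (D k), pre x (f ⁻¹ᵁ W)) where
  toFun s := emU x (f ⁻¹ᵁ W) (f.app W s) + EU x (f ⁻¹ᵁ W) * emU x (f ⁻¹ᵁ W) (dv Dr W s)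
  map_one' := by rw [map_one, map_one, dv_one, map_zero, mul_zero, add_zero]
  map_mul' a b := by
    rw [dv_mul, map_mul, map_mul, map_add, map_mul, map_mul]
    linear_combination (-(emU x (f ⁻¹ᵁ W) (dv Dr W a) * emU x (f ⁻¹ᵁ W) (dv Dr W b))) * EU_sq x (f ⁻¹ᵁ W)
  map_zero' := by rw [map_zero, map_zero, map_zero, map_zero, mul_zero, add_zero]
  map_add' a b := by
    rw [map_add, map_add, map_add, map_add]
    ring

/-- The comorphism of a derivation. -/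
def comor : Y.presheaf ⟶ (TopCat.Presheaf.pushforward CommRingCat
    (pullback.fst x (ArtFun.Art.specOver (D k)) ≫ f).base).obj (ArtFun.Art.XA x (D k)).presheaf where
  app W := CommRingCat.ofHom (cmap (x := x) Dr W.unop)
  naturality W W' i := by
    refine CommRingCat.hom_ext (RingHom.ext fun s => ?_)
    have h : W'.unop ≤ W.unop := i.unop.le
    have h1 : f ⁻¹ᵁ W'.unop ≤ f ⁻¹ᵁ W.unop := fun _ hz => h hz
    show cmap (x := x) Dr W'.unop (Y.presheaf.map (homOfLE h).op s) =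
      (ArtFun.Art.XA x (D k)).presheaf.map (homOfLE (pre_mono x h1)).op (cmap (x := x) Dr W.unop s)
    show emU x _ (f.app W'.unop _) + EU x _ * emU x _ (dv Dr W'.unop _) =
      (ArtFun.Art.XA x (D k)).presheaf.map (homOfLE (pre_mono x h1)).op
        (emU x (f ⁻¹ᵁ W.unop) (f.app W.unop s) + EU x (f ⁻¹ᵁ W.unop) * emU x (f ⁻¹ᵁ W.unop) (dv Dr W.unop s))
    rw [map_add, map_mul, res_emU x h1, res_emU x h1, dv_res Dr h h1,
      show (ArtFun.Art.XA x (D k)).presheaf.map (homOfLE (pre_mono x h1)).op (EU x (f ⁻¹ᵁ W.unop)) =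
        EU x (f ⁻¹ᵁ W'.unop) from HilbGlueLib.res_sB x (D k) _ _,
      show f.app W'.unop (Y.presheaf.map (homOfLE h).op s) =
        X.presheaf.map (homOfLE h1).op (f.app W.unop s) from congr($(f.naturality (homOfLE h).op) s)]

/-- The morphism of a derivation. -/
def mor : ArtFun.Art.XA x (D k) ⟶ Y := by
  refine Scheme.Hom.mk (LocallyRingedSpace.Hom.mk
    { base := (pullback.fst x (ArtFun.Art.specOver (D k)) ≫ f).base, c := comor (x := x) Dr } fun q => ⟨fun z hz => ?_⟩)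
  let g := pullback.fst x (ArtFun.Art.specOver (D k)) ≫ f
  obtain ⟨U, hU, s, rfl⟩ := Y.presheaf.exists_germ_eq (x := g q) z
  have h1 := PresheafedSpace.stalkMap_germ_apply
    ({ base := g.base, c := comor (x := x) Dr } :
      (ArtFun.Art.XA x (D k)).toPresheafedSpace.Hom Y.toPresheafedSpace) U q hU s
  have hz' : IsUnit ((ArtFun.Art.XA x (D k)).presheaf.germ (pre x (f ⁻¹ᵁ U)) q hU (cmap (x := x) Dr U s)) := h1 ▸ hz
  have hg : IsUnit ((ArtFun.Art.XA x (D k)).presheaf.germ (g ⁻¹ᵁ U) q hU (g.app U s)) := by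
    have e2 : (g.app U s : Γ(ArtFun.Art.XA x (D k), g ⁻¹ᵁ U)) = emU x (f ⁻¹ᵁ U) (f.app U s) :=
      congr($((Scheme.Hom.comp_app (pullback.fst x (ArtFun.Art.specOver (D k))) f U).trans
        (congrArg (f.app U ≫ ·) (Scheme.Hom.app_eq_appLE _))) s)
    have hnil : IsNilpotent ((ArtFun.Art.XA x (D k)).presheaf.germ (pre x (f ⁻¹ᵁ U)) q hU
        (EU x (f ⁻¹ᵁ U) * emU x (f ⁻¹ᵁ U) (dv Dr U s))) := by
      refine ⟨2, ?_⟩
      rw [← map_pow, sq, mul_mul_mul_comm, EU_sq, zero_mul, map_zero]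
    change IsUnit ((ArtFun.Art.XA x (D k)).presheaf.germ (pre x (f ⁻¹ᵁ U)) q hU
      (emU x (f ⁻¹ᵁ U) (f.app U s) + EU x (f ⁻¹ᵁ U) * emU x (f ⁻¹ᵁ U) (dv Dr U s))) at hz'
    rw [map_add] at hz'
    rw [e2]
    have := hnil.neg.isUnit_add_left_of_commute hz' (Commute.all _ _)
    simp only [add_neg_cancel_right, neg_add_cancel_comm_assoc, add_neg_cancel_comm] at this
    exact this
  haveI := (g.toLRSHom).prop q
  rw [← Scheme.Hom.germ_stalkMap_apply g U q hU s] at hg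
  exact isUnit_of_map_unit (g.stalkMap q).hom _ hg

theorem mor_app (W : Y.Opens) (s : Γ(Y, W)) (h : pre x (f ⁻¹ᵁ W) ≤ mor (x := x) Dr ⁻¹ᵁ W) :
    ((mor (x := x) Dr).appLE W (pre x (f ⁻¹ᵁ W)) h).hom s = cmap (x := x) Dr W s := by
  have e : (mor (x := x) Dr).appLE W (pre x (f ⁻¹ᵁ W)) le_rfl = (mor (x := x) Dr).app W :=
    (Scheme.Hom.app_eq_appLE _).symm
  exact congr($(e) s)

include hf in
theorem mor_spec : mor (x := x) Dr ≫ yY = pullback.fst x (ArtFun.Art.specOver (D k)) ≫ x ∧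
    ArtFun.Art.XAincl x (D k) ≫ mor (x := x) Dr = f := by
  constructor
  · refine ext_of_isAffine (CommRingCat.hom_ext (RingHom.ext fun c => ?_))
    rw [Scheme.Hom.comp_appTop, Scheme.Hom.comp_appTop]
    show cmap (x := x) Dr (yY ⁻¹ᵁ ⊤) (yY.app ⊤ c) = (pullback.fst x (ArtFun.Art.specOver (D k))).appTop (x.appTop c)
    have h0 : dv Dr (yY ⁻¹ᵁ ⊤) (yY.app ⊤ c) = 0 :=
      (congrArg (OmegaSh.fnSect X _) (Dr.d_app (X := op ⊤) c)).trans (map_zero _)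
    show emU x (f ⁻¹ᵁ yY ⁻¹ᵁ ⊤) (f.app (yY ⁻¹ᵁ ⊤) (yY.app ⊤ c)) + _ * emU x (f ⁻¹ᵁ yY ⁻¹ᵁ ⊤) (dv Dr _ _) = _
    rw [h0, map_zero, mul_zero, add_zero]
    have h2 : f.app (yY ⁻¹ᵁ ⊤) (yY.app ⊤ c) = x.appTop c := by
      have key : ∀ (z : X ⟶ ArtFun.Art.specPt k), z = x → z.appTop c = x.appTop c := by rintro _ rfl; rfl
      exact key (f ≫ yY) hf
    rw [h2]
    exact congr($((Scheme.Hom.app_eq_appLE (f := pullback.fst x (ArtFun.Art.specOver (D k))) (U := ⊤)).symm) _)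
  · refine Scheme.Hom.ext ?_ fun U => ?_
    · show (ArtFun.Art.XAincl x (D k)).base ≫ (pullback.fst x (ArtFun.Art.specOver (D k)) ≫ f).base = f.base
      rw [← Scheme.Hom.comp_base, ← Category.assoc, ArtFun.Art.XAincl_fst, Category.id_comp]
    · refine CommRingCat.hom_ext (RingHom.ext fun s => ?_)
      have h1 : f ⁻¹ᵁ U ≤ (ArtFun.Art.XAincl x (D k) ≫ mor (x := x) Dr) ⁻¹ᵁ U := pre_le x (f ⁻¹ᵁ U)
      show ((ArtFun.Art.XAincl x (D k) ≫ mor (x := x) Dr).appLE U (f ⁻¹ᵁ U) h1).hom s = _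
      rw [← Scheme.Hom.appLE_comp_appLE (ArtFun.Art.XAincl x (D k)) (mor (x := x) Dr) U (pre x (f ⁻¹ᵁ U)) (f ⁻¹ᵁ U)
        le_rfl (pre_le x _)]
      show rdU x (f ⁻¹ᵁ U) ((mor (x := x) Dr).appLE U (pre x (f ⁻¹ᵁ U)) le_rfl s) = _
      rw [mor_app]
      exact (cfU_spec x (f ⁻¹ᵁ U) _ _).1

end Back

/-- Deformations of `f` are derivations. -/
theorem derOf_bijective (hf : f ≫ yY = x) : Function.Bijective (derOf : Def1 x yY f → _) := by
  refine ⟨fun φ ψ h => Subtype.ext ?_, fun Dr => ⟨⟨mor (x := x) Dr, mor_spec hf Dr⟩, ?_⟩⟩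
  · have hb : ∀ χ : Def1 x yY f, χ.1.base = (pullback.fst x (ArtFun.Art.specOver (D k)) ≫ f).base := fun χ => by
      refine TopCat.hom_ext (ContinuousMap.ext fun q => ?_)
      obtain ⟨a, rfl⟩ := HilbObsLib.surjective_incl x (D k) q
      show χ.1 (ArtFun.Art.XAincl x (D k) a) =
        (pullback.fst x (ArtFun.Art.specOver (D k)) ≫ f) (ArtFun.Art.XAincl x (D k) a)
      rw [← Scheme.Hom.comp_apply, ← Scheme.Hom.comp_apply, χ.2.2, ← Category.assoc, ArtFun.Art.XAincl_fst,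
        Category.id_comp]
    refine Scheme.Hom.ext ((hb φ).trans (hb ψ).symm) fun U => ?_
    refine CommRingCat.hom_ext (RingHom.ext fun s => ?_)
    have hev : ev φ U s = ev ψ U s := by
      have h1 : cfU x (f ⁻¹ᵁ U) (ev φ U s) = cfU x (f ⁻¹ᵁ U) (ev ψ U s) :=
        congrArg (fun d : OmegaSh.Der yY _ => OmegaSh.fnSect X (f ⁻¹ᵁ U) (d.app U s)) h
      rw [decomp x _ (ev φ U s), decomp x _ (ev ψ U s), rdU_ev, rdU_ev, h1]
    have hle : φ.1 ⁻¹ᵁ U ≤ pre x (f ⁻¹ᵁ U) := fun q hq => by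
      have h2 : (pullback.fst x (ArtFun.Art.specOver (D k)) ≫ f) q ∈ U := by
        have := hb φ
        show (ConcreteCategory.hom (pullback.fst x (ArtFun.Art.specOver (D k)) ≫ f).base) q ∈ U
        rw [← this]
        exact hq
      exact h2
    have hle' : ψ.1 ⁻¹ᵁ U ≤ pre x (f ⁻¹ᵁ U) := fun q hq => by
      have h2 : (pullback.fst x (ArtFun.Art.specOver (D k)) ≫ f) q ∈ U := by
        have := hb ψ
        show (ConcreteCategory.hom (pullback.fst x (ArtFun.Art.specOver (D k)) ≫ f).base) q ∈ U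
        rw [← this]
        exact hq
      exact h2
    have e1 := congrArg ((ArtFun.Art.XA x (D k)).presheaf.map (homOfLE hle).op) hev
    have key : ∀ (χ : Def1 x yY f) (O : (ArtFun.Art.XA x (D k)).Opens) (hO : O ≤ pre x (f ⁻¹ᵁ U)) (hO' : O ≤ χ.1 ⁻¹ᵁ U),
        (ArtFun.Art.XA x (D k)).presheaf.map (homOfLE hO).op (ev χ U s) = (χ.1.appLE U O hO').hom s :=
      fun χ O hO hO' => congr($(Scheme.Hom.appLE_map χ.1 (le_preimage χ U) (homOfLE hO).op) s)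
    rw [key φ _ hle le_rfl, key ψ _ hle (hle.trans (le_preimage ψ U))] at e1
    simp only [CommRingCat.hom_comp, RingHom.comp_apply]
    rw [Scheme.Hom.app_eq_appLE, Scheme.Hom.app_eq_appLE, ← CommRingCat.comp_apply, Scheme.Hom.appLE_map]
    have hsame : φ.1 ⁻¹ᵁ U = ψ.1 ⁻¹ᵁ U := by
      ext q
      show φ.1 q ∈ U ↔ ψ.1 q ∈ U
      rw [show φ.1 q = ψ.1 q from congr($((hb φ).trans (hb ψ).symm) q)]
    have key2 : ∀ (O : (ArtFun.Art.XA x (D k)).Opens) (hφ : O ≤ φ.1 ⁻¹ᵁ U) (hψ : O ≤ ψ.1 ⁻¹ᵁ U),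
        (φ.1.appLE U O hφ).hom s = (ψ.1.appLE U O hψ).hom s := fun O hφ hψ => by
      rw [← key φ O (hφ.trans hle) hφ, ← key ψ O (hφ.trans hle) hψ, hev]
    exact key2 _ _ _
  · refine PresheafOfModules.Derivation.ext ?_
    ext W s
    show OmegaSh.strSect X _ (cfU x (f ⁻¹ᵁ W.unop) (ev ⟨mor (x := x) Dr, mor_spec hf Dr⟩ W.unop s)) = _
    rw [ev, mor_app, show cfU x (f ⁻¹ᵁ W.unop) (cmap (x := x) Dr W.unop s) = dv Dr W.unop s from
      (cfU_spec x (f ⁻¹ᵁ W.unop) _ _).2]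
    rfl

end HomTanLib
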