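import Groth.Agent.HilbGlueLib.DualSurj
import Groth.Agent.HilbObsLib.Main
import Groth.Agent.EtTwoLib.BasisHom

/-!
# Functions on `X ×_k k[ε]` as pairs of functions on `X`
-/

set_option autoImplicit false
set_option linter.style.haveILetI false
set_option linter.unusedSectionVars false
set_option backward.isDefEq.respectTransparency false
set_option backward.isDefEq.respectTransparency.types false
set_option maxHeartbeats 1000000
universe u

open CategoryTheory CategoryTheory.Limits AlgebraicGeometry TopologicalSpace Opposite IsLocalRing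
open HilbObsLib (str sB)
open HilbGlueLib (up red emb gmap kst D eps E exists_coeff eq_zero_of_E_mul up_mono)

noncomputable section

namespace HomTanLib

variable {k : Type u} [Field k] {X : Scheme.{u}} (x : X ⟶ ArtFun.Art.specPt k)

/-- The open over `U`. -/
abbrev pre (U : X.Opens) : (ArtFun.Art.XA x (D k)).Opens := pullback.fst x (ArtFun.Art.specOver (D k)) ⁻¹ᵁ U

/-- Functions on `X` as functions on `X ×_k k[ε]`. -/
abbrev emU (U : X.Opens) : Γ(X, U) →+* Γ(ArtFun.Art.XA x (D k), pre x U) :=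
  ((pullback.fst x (ArtFun.Art.specOver (D k))).appLE U (pre x U) le_rfl).hom

theorem pre_le (U : X.Opens) : U ≤ ArtFun.Art.XAincl x (D k) ⁻¹ᵁ pre x U := by
  rw [pre, ← Scheme.Hom.comp_preimage, ArtFun.Art.XAincl_fst]
  exact le_rfl

/-- The value on the closed fibre. -/
abbrev rdU (U : X.Opens) : Γ(ArtFun.Art.XA x (D k), pre x U) →+* Γ(X, U) :=
  ((ArtFun.Art.XAincl x (D k)).appLE (pre x U) U (pre_le x U)).hom

/-- `ε`. -/
abbrev EU (U : X.Opens) : Γ(ArtFun.Art.XA x (D k), pre x U) := sB x (pre x U) eps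

theorem pre_mono {U U' : X.Opens} (h : U' ≤ U) : pre x U' ≤ pre x U := fun _ hz => h hz

theorem res_emU {U U' : X.Opens} (h : U' ≤ U) (a : Γ(X, U)) :
    (ArtFun.Art.XA x (D k)).presheaf.map (homOfLE (pre_mono x h)).op (emU x U a) =
      emU x U' (X.presheaf.map (homOfLE h).op a) := by
  have e : (pullback.fst x (ArtFun.Art.specOver (D k))).appLE U (pre x U) le_rfl ≫
      (ArtFun.Art.XA x (D k)).presheaf.map (homOfLE (pre_mono x h)).op =
        X.presheaf.map (homOfLE h).op ≫ (pullback.fst x (ArtFun.Art.specOver (D k))).appLE U' (pre x U') le_rfl := by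
    rw [Scheme.Hom.appLE_map, Scheme.Hom.map_appLE]
  exact congr($(e) a)

theorem res_rdU {U U' : X.Opens} (h : U' ≤ U) (p : Γ(ArtFun.Art.XA x (D k), pre x U)) :
    X.presheaf.map (homOfLE h).op (rdU x U p) =
      rdU x U' ((ArtFun.Art.XA x (D k)).presheaf.map (homOfLE (pre_mono x h)).op p) := by
  have e : (ArtFun.Art.XAincl x (D k)).appLE (pre x U) U (pre_le x U) ≫ X.presheaf.map (homOfLE h).op =
      (ArtFun.Art.XA x (D k)).presheaf.map (homOfLE (pre_mono x h)).op ≫
        (ArtFun.Art.XAincl x (D k)).appLE (pre x U') U' (pre_le x U') := by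
    rw [Scheme.Hom.appLE_map, Scheme.Hom.map_appLE]
  exact congr($(e) p)

theorem rdU_emU (U : X.Opens) (a : Γ(X, U)) : rdU x U (emU x U a) = a := by
  have h0 : (pullback.fst x (ArtFun.Art.specOver (D k))).appLE U (pre x U) le_rfl ≫
      (ArtFun.Art.XAincl x (D k)).appLE (pre x U) U (pre_le x U) =
        (ArtFun.Art.XAincl x (D k) ≫ pullback.fst x (ArtFun.Art.specOver (D k))).appLE U U
          (by rw [ArtFun.Art.XAincl_fst]; exact le_rfl) := Scheme.Hom.appLE_comp_appLE _ _ _ _ _ _ _
  simp only [ArtFun.Art.XAincl_fst] at h0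
  have e : (𝟙 X : X ⟶ X).appLE U U le_rfl = 𝟙 _ := (Scheme.Hom.app_eq_appLE (f := 𝟙 X) (U := U)).symm.trans rfl
  exact congr($(h0.trans e) a)

theorem EU_sq (U : X.Opens) : EU x U * EU x U = 0 := by
  rw [EU, ← map_mul, HilbGlueLib.eps_mul_eps, map_zero]

/-- The `ε`-coefficient, as a module map. -/
theorem exists_cf : ∃ c : (Scheme.Modules.pushforward (pullback.fst x (ArtFun.Art.specOver (D k)))).obj
      (Coh.structureModule (ArtFun.Art.XA x (D k))) ⟶ Coh.structureModule X,
    ∀ (V : X.affineOpens) (p : Γ(ArtFun.Art.XA x (D k), (up x (D k) V).1)) (b : Γ(X, V.1)),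
      p = emb x (D k) V (red x (D k) V p) + E x V * emb x (D k) V b → c.app V.1 p = b := by
  choose b hb using fun (V : X.affineOpens) p => exists_coeff x V p
  have huniq : ∀ (V : X.affineOpens) p b', p = emb x (D k) V (red x (D k) V p) + E x V * emb x (D k) V b' →
      b V p = b' := fun V p b' h => by
    rw [← sub_eq_zero]
    refine eq_zero_of_E_mul (x := x) V ?_
    rw [map_sub, mul_sub, sub_eq_zero]
    exact add_left_cancel ((hb V p).symm.trans h)
  let Φ : ∀ V : X.affineOpens, Γ((Scheme.Modules.pushforward (pullback.fst x (ArtFun.Art.specOver (D k)))).obj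
      (Coh.structureModule (ArtFun.Art.XA x (D k))), V.1) →+ Γ(Coh.structureModule X, V.1) := fun V =>
    AddMonoidHom.mk' (fun p : Γ(ArtFun.Art.XA x (D k), (up x (D k) V).1) => (b V p : Γ(X, V.1))) fun p q => by
      refine huniq V _ (b V p + b V q) ?_
      conv_lhs => rw [hb V p, hb V q]
      rw [map_add, map_add, map_add]
      ring
  obtain ⟨c, hc⟩ := EtTwoLib.exists_hom_of_basis (E := (Scheme.Modules.pushforward
      (pullback.fst x (ArtFun.Art.specOver (D k)))).obj (Coh.structureModule (ArtFun.Art.XA x (D k))))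
    (P := Coh.structureModule X) (fun V : X.affineOpens => V.1)
    (Opens.isBasis_iff_nbhd.mpr fun {U p} hp => by
      obtain ⟨W, hW, hpW, hWU⟩ := Opens.isBasis_iff_nbhd.mp X.isBasis_affineOpens hp
      exact ⟨W, ⟨⟨W, hW⟩, rfl⟩, hpW, hWU⟩) Φ
    (fun V W h p => by
      show X.presheaf.map (homOfLE h).op (b V p) =
        b W ((ArtFun.Art.XA x (D k)).presheaf.map (homOfLE (up_mono (x := x) (D k) h)).op p)
      refine (huniq W _ _ ?_).symm
      have hh := congrArg ((ArtFun.Art.XA x (D k)).presheaf.map (homOfLE (up_mono (x := x) (D k) h)).op) (hb V p)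
      rw [map_add, map_mul, HilbGlueLib.res_emb x (D k) h, HilbGlueLib.res_emb x (D k) h,
        HilbGlueLib.res_red x (D k) h (up_mono (x := x) (D k) h)] at hh
      rw [show E x W = (ArtFun.Art.XA x (D k)).presheaf.map (homOfLE (up_mono (x := x) (D k) h)).op (E x V) from
        (HilbGlueLib.res_sB x (D k) _ _).symm]
      exact hh)
    (fun V r p => by
      show b V (@HMul.hMul Γ(ArtFun.Art.XA x (D k), (up x (D k) V).1) Γ(ArtFun.Art.XA x (D k), (up x (D k) V).1)
        Γ(ArtFun.Art.XA x (D k), (up x (D k) V).1) _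
        (((pullback.fst x (ArtFun.Art.specOver (D k))).app V.1).hom r) p) = r * b V p
      rw [Scheme.Hom.app_eq_appLE]
      refine huniq V _ _ ?_
      show emb x (D k) V r * _ = emb x (D k) V (red x (D k) V (emb x (D k) V r * _)) + _
      conv_lhs => rw [hb V p]
      rw [map_mul (red x (D k) V), HilbGlueLib.red_emb, map_mul (emb x (D k) V), map_mul (emb x (D k) V)]
      ring)
  exact ⟨c, fun V p b' h => (hc V p).trans (huniq V p b' h)⟩

/-- The `ε`-coefficient. -/
def cfHom : (Scheme.Modules.pushforward (pullback.fst x (ArtFun.Art.specOver (D k)))).obj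
    (Coh.structureModule (ArtFun.Art.XA x (D k))) ⟶ Coh.structureModule X := (exists_cf x).choose

/-- The `ε`-coefficient on sections. -/
def cfU (U : X.Opens) : Γ(ArtFun.Art.XA x (D k), pre x U) →+ Γ(X, U) :=
  AddMonoidHom.mk' (fun p => OmegaSh.fnSect X U ((cfHom x).app U p)) fun p q => by
    show OmegaSh.fnSect X U ((cfHom x).app U (p + q)) = _
    exact (congrArg _ (map_add ((cfHom x).app U).hom p q)).trans (map_add _ _ _)

theorem cfU_res {U U' : X.Opens} (h : U' ≤ U) (p : Γ(ArtFun.Art.XA x (D k), pre x U)) :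
    X.presheaf.map (homOfLE h).op (cfU x U p) =
      cfU x U' ((ArtFun.Art.XA x (D k)).presheaf.map (homOfLE (pre_mono x h)).op p) :=
  (QCohLib.app_map (cfHom x) (homOfLE h) p).symm

theorem cfU_affine (V : X.affineOpens) {p : Γ(ArtFun.Art.XA x (D k), (up x (D k) V).1)} {b : Γ(X, V.1)}
    (h : p = emb x (D k) V (red x (D k) V p) + E x V * emb x (D k) V b) : cfU x V.1 p = b :=
  (exists_cf x).choose_spec V p b h

theorem ext_affine {U : X.Opens} {a a' : Γ(X, U)}
    (h : ∀ (V : X.affineOpens) (hV : V.1 ≤ U),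
      X.presheaf.map (homOfLE hV).op a = X.presheaf.map (homOfLE hV).op a') : a = a' := by
  refine X.sheaf.eq_of_locally_eq' (fun V : {V : X.affineOpens // V.1 ≤ U} => V.1.1) U
    (fun V => homOfLE V.2) (fun q hq => ?_) a a' fun V => h V.1 V.2
  obtain ⟨W, hW, hqW, hWU⟩ := Opens.isBasis_iff_nbhd.mp X.isBasis_affineOpens hq
  exact Opens.mem_iSup.2 ⟨⟨⟨W, hW⟩, hWU⟩, hqW⟩

theorem ext_pre {U : X.Opens} {p p' : Γ(ArtFun.Art.XA x (D k), pre x U)}
    (h : ∀ (V : X.affineOpens) (hV : V.1 ≤ U),
      (ArtFun.Art.XA x (D k)).presheaf.map (homOfLE (pre_mono x hV)).op p =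
        (ArtFun.Art.XA x (D k)).presheaf.map (homOfLE (pre_mono x hV)).op p') : p = p' := by
  refine (ArtFun.Art.XA x (D k)).sheaf.eq_of_locally_eq' (fun V : {V : X.affineOpens // V.1 ≤ U} => pre x V.1.1) _
    (fun V => homOfLE (pre_mono x V.2)) (fun q hq => ?_) p p' fun V => h V.1 V.2
  obtain ⟨W, hW, hqW, hWU⟩ := Opens.isBasis_iff_nbhd.mp X.isBasis_affineOpens
    (show pullback.fst x (ArtFun.Art.specOver (D k)) q ∈ U from hq)
  exact Opens.mem_iSup.2 ⟨⟨⟨W, hW⟩, hWU⟩, hqW⟩

theorem decomp (U : X.Opens) (p : Γ(ArtFun.Art.XA x (D k), pre x U)) :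
    p = emU x U (rdU x U p) + EU x U * emU x U (cfU x U p) := by
  refine ext_pre x fun V hV => ?_
  rw [map_add, map_mul, res_emU x hV, res_emU x hV, res_rdU x hV, cfU_res x hV,
    show (ArtFun.Art.XA x (D k)).presheaf.map (homOfLE (pre_mono x hV)).op (EU x U) = E x V from
      HilbGlueLib.res_sB x (D k) _ _]
  obtain ⟨b, hb⟩ := exists_coeff x V ((ArtFun.Art.XA x (D k)).presheaf.map (homOfLE (pre_mono x hV)).op p)
  rw [cfU_affine x V hb]
  exact hb

theorem cfU_spec (U : X.Opens) (a b : Γ(X, U)) :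
    rdU x U (emU x U a + EU x U * emU x U b) = a ∧ cfU x U (emU x U a + EU x U * emU x U b) = b := by
  have h1 : rdU x U (emU x U a + EU x U * emU x U b) = a := by
    refine ext_affine fun V hV => ?_
    rw [res_rdU x hV, map_add, map_mul, res_emU x hV, res_emU x hV,
      show (ArtFun.Art.XA x (D k)).presheaf.map (homOfLE (pre_mono x hV)).op (EU x U) = E x V from
        HilbGlueLib.res_sB x (D k) _ _]
    exact HilbGlueLib.red_rep (x := x) V _ _
  refine ⟨h1, ext_affine fun V hV => ?_⟩
  rw [cfU_res x hV]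
  refine cfU_affine x V ?_
  rw [map_add, map_mul, res_emU x hV, res_emU x hV,
    show (ArtFun.Art.XA x (D k)).presheaf.map (homOfLE (pre_mono x hV)).op (EU x U) = E x V from
      HilbGlueLib.res_sB x (D k) _ _]
  exact congrArg (fun a' => emb x (D k) V a' + _) (HilbGlueLib.red_rep (x := x) V _ _).symm

theorem cfU_emU (U : X.Opens) (a : Γ(X, U)) : cfU x U (emU x U a) = 0 := by
  have h := (cfU_spec x U a 0).2
  rwa [map_zero, mul_zero, add_zero] at h

theorem cfU_mul (U : X.Opens) (p q : Γ(ArtFun.Art.XA x (D k), pre x U)) :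
    cfU x U (p * q) = rdU x U p * cfU x U q + rdU x U q * cfU x U p := by
  refine Eq.trans ?_ (cfU_spec x U (rdU x U p * rdU x U q) _).2
  refine congrArg (cfU x U) ?_
  conv_lhs => rw [decomp x U p, decomp x U q]
  rw [map_mul, map_add, map_mul, map_mul]
  linear_combination (emU x U (cfU x U p) * emU x U (cfU x U q)) * EU_sq x U

end HomTanLib
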