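import Groth.Agent.HomTanLib.Mor
import Groth.Agent.HilbSmoothLib.Bridge
import Groth.Prelude.Def_AlgGrp

/-!
# Artinian points of a scheme of morphisms
-/

set_option autoImplicit false
set_option linter.style.haveILetI false
set_option linter.unusedSectionVars false
set_option backward.isDefEq.respectTransparency false
set_option backward.isDefEq.respectTransparency.types false
set_option maxHeartbeats 1000000
universe u

open CategoryTheory CategoryTheory.Limits MonoidalCategory CartesianMonoidalCategory AlgebraicGeometry IsLocalRing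
open scoped AlgebraicGeometry

noncomputable section

namespace HomTanLib

variable {k : Type u} [Field k]

theorem exists_points {X Y : Scheme.{u}} (xX : X ⟶ Spec (CommRingCat.of k)) (yY : Y ⟶ Spec (CommRingCat.of k))
    (M : Over (Spec (CommRingCat.of k))) (υ : Over.mk xX ⊗ M ⟶ Over.mk yY)
    (hM : ∀ (T : Over (Spec (CommRingCat.of k))) (φ : Over.mk xX ⊗ T ⟶ Over.mk yY),
      ∃! a : T ⟶ M, (Over.mk xX ◁ a) ≫ υ = φ)
    (f : X ⟶ Y) (hf : f ≫ yY = xX) (af : 𝟙_ (Over (Spec (CommRingCat.of k))) ⟶ M)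
    (haf : (Over.mk xX ◁ af) ≫ υ = (ρ_ (Over.mk xX)).hom ≫ (Over.homMk f hf : Over.mk xX ⟶ Over.mk yY)) :
    ∃ alg : Algebra k (M.left.presheaf.stalk (af.left.base (IsLocalRing.closedPoint k))),
      letI := alg
      ∃ (res : M.left.presheaf.stalk (af.left.base (IsLocalRing.closedPoint k)) →ₐ[k] k)
        (h : ∀ A : ArtFun.Art k k, ArtFun.HomSet _ res A →
          {φ : ArtFun.Art.XA xX A ⟶ Y //
            φ ≫ yY = pullback.fst xX (ArtFun.Art.specOver A) ≫ xX ∧ ArtFun.Art.XAincl xX A ≫ φ = f}),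
        (∀ A, Function.Bijective (h A)) ∧
          ∀ {A B : ArtFun.Art k k} (μ : A ⟶ B) (φ : ArtFun.HomSet _ res A),
            (h B (ArtFun.HomSet.map μ φ)).1 = ArtFun.Art.XAmap xX μ ≫ (h A φ).1 := by
  let p : M.left := af.left.base (IsLocalRing.closedPoint k)
  let R : CommRingCat.{u} := M.left.presheaf.stalk p
  let a : CommRingCat.of k ⟶ R := Spec.preimage (M.left.fromSpecStalk p ≫ M.hom)
  have ha : Spec.map a = M.left.fromSpecStalk p ≫ M.hom := Spec.map_preimage _
  letI : Algebra k R := a.hom.toAlgebra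
  obtain ⟨ρ, hρ⟩ := HilbSmoothLib.exists_of_point (B := CommRingCat.of k) af.left (p := p) rfl
  have haρ : a ≫ ρ = 𝟙 _ := Spec.map_injective (by
    rw [Spec.map_comp, ha, reassoc_of% hρ, Spec.map_id]
    exact Over.w af)
  let res : R →ₐ[k] k := { ρ.hom with commutes' := fun c => congr($(haρ) c) }
  have hres : CommRingCat.ofHom res.toRingHom = ρ := rfl
  let T : ArtFun.Art k k → Over (Spec (CommRingCat.of k)) := fun A => Over.mk (ArtFun.Art.specOver A)
  let gA : ∀ A, ArtFun.HomSet R res A → (T A ⟶ M) := fun A φ =>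
    Over.homMk (Spec.map (CommRingCat.ofHom φ.1.toRingHom) ≫ M.left.fromSpecStalk p) (by
      show (Spec.map _ ≫ _) ≫ M.hom = ArtFun.Art.specOver A
      rw [Category.assoc, ← ha, ← Spec.map_comp]
      refine congrArg Spec.map ?_
      ext c
      exact φ.1.commutes c)
  have hgA : ∀ A (φ : ArtFun.HomSet R res A), ArtFun.Art.specRes A ≫ (gA A φ).left = af.left := fun A φ => by
    show Spec.map _ ≫ Spec.map _ ≫ _ = _
    rw [← Category.assoc, ← Spec.map_comp, ← hρ, ← hres]
    congr 2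
    exact congrArg CommRingCat.ofHom (congrArg AlgHom.toRingHom φ.2)
  let s : ∀ A, 𝟙_ (Over (Spec (CommRingCat.of k))) ⟶ T A := fun A => Over.homMk (ArtFun.Art.specRes A) (by
    show Spec.map _ ≫ Spec.map _ = 𝟙 _
    rw [← Spec.map_comp, ← Spec.map_id]
    refine congrArg Spec.map ?_
    ext c
    exact A.res.commutes c)
  -- restriction to the closed fibre
  have hsec : ∀ A (θ : Over.mk xX ⊗ T A ⟶ Over.mk yY),
      ArtFun.Art.XAincl xX A ≫ θ.left = ((ρ_ (Over.mk xX)).inv ≫ (Over.mk xX ◁ s A) ≫ θ).left := fun A θ => by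
    show _ = (ρ_ (Over.mk xX)).inv.left ≫ (Over.mk xX ◁ s A).left ≫ θ.left
    rw [← Category.assoc]
    congr 1
    apply pullback.hom_ext
    · rw [Category.assoc]
      refine (ArtFun.Art.XAincl_fst xX A).trans ?_
      erw [Over.whiskerLeft_left_fst, Over.rightUnitor_inv_left_fst]
      rfl
    · rw [Category.assoc]
      refine (ArtFun.Art.XAincl_snd xX A).trans ?_
      erw [Over.whiskerLeft_left_snd, Over.rightUnitor_inv_left_snd_assoc]
      rfl
  have hclosed : ∀ A (b : T A ⟶ M),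
      ArtFun.Art.XAincl xX A ≫ ((Over.mk xX ◁ b) ≫ υ).left = f ↔ s A ≫ b = af := fun A b => by
    rw [hsec, ← MonoidalCategory.whiskerLeft_comp_assoc]
    constructor
    · intro h
      refine (hM _ ((Over.mk xX ◁ af) ≫ υ)).unique ?_ rfl
      rw [haf, ← cancel_epi (ρ_ (Over.mk xX)).inv, Iso.inv_hom_id_assoc]
      exact Over.OverMorphism.ext h
    · rintro h
      rw [h, haf, Iso.inv_hom_id_assoc]
      rfl
  let h : ∀ A, ArtFun.HomSet R res A →
      {φ : ArtFun.Art.XA xX A ⟶ Y //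
        φ ≫ yY = pullback.fst xX (ArtFun.Art.specOver A) ≫ xX ∧ ArtFun.Art.XAincl xX A ≫ φ = f} := fun A φ =>
    ⟨((Over.mk xX ◁ gA A φ) ≫ υ).left, (Over.w ((Over.mk xX ◁ gA A φ) ≫ υ)).trans rfl,
      (hclosed A _).2 (Over.OverMorphism.ext (hgA A φ))⟩
  refine ⟨inferInstance, res, h, fun A => ⟨fun φ ψ e => ?_, fun Φ => ?_⟩, fun {A B} μ φ => ?_⟩
  · have e1 : (Over.mk xX ◁ gA A φ) ≫ υ = (Over.mk xX ◁ gA A ψ) ≫ υ :=
      Over.OverMorphism.ext (congrArg Subtype.val e)
    have e2 : gA A φ = gA A ψ := (hM _ _).unique e1 rfl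
    have e3 : CommRingCat.ofHom φ.1.toRingHom = CommRingCat.ofHom ψ.1.toRingHom :=
      HilbSmoothLib.spec_map_fromSpecStalk_injective (congrArg CommaMorphism.left e2)
    exact Subtype.ext (AlgHom.ext fun r => congr($(e3) r))
  · obtain ⟨g, hg, -⟩ := hM (T A) (Over.homMk Φ.1 Φ.2.1 : Over.mk xX ⊗ T A ⟶ Over.mk yY)
    have hs : s A ≫ g = af := (hclosed A g).1 (by rw [hg]; exact Φ.2.2)
    have hleft : ArtFun.Art.specRes A ≫ g.left = af.left := congrArg CommaMorphism.left hs
    have hpt : g.left (closedPoint A) = p := by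
      haveI : Subsingleton (PrimeSpectrum A) :=
        ⟨fun p q => PrimeSpectrum.ext ((IsLocalRing.eq_maximalIdeal (IsArtinianRing.isMaximal_of_isPrime p.asIdeal)).trans
          (IsLocalRing.eq_maximalIdeal (IsArtinianRing.isMaximal_of_isPrime q.asIdeal)).symm)⟩
      refine (congrArg g.left (Subsingleton.elim (α := PrimeSpectrum A) _
        ((ArtFun.Art.specRes A) (closedPoint k)))).trans ?_
      exact congrArg (fun h : Spec (CommRingCat.of k) ⟶ M.left => h (closedPoint k)) hleft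
    obtain ⟨ψ, hψ⟩ := HilbSmoothLib.exists_of_point (B := CommRingCat.of A) g.left hpt
    have h1 : a ≫ ψ = CommRingCat.ofHom (algebraMap k A) := Spec.map_injective (by
      rw [Spec.map_comp, ha, reassoc_of% hψ]
      exact Over.w g)
    let φA : R →ₐ[k] A := { ψ.hom with commutes' := fun c => congr($(h1) c) }
    have hresφ : A.res.comp φA = res := by
      have h2 : ψ ≫ CommRingCat.ofHom A.res.toRingHom = ρ :=
        HilbSmoothLib.spec_map_fromSpecStalk_injective (by
          rw [Spec.map_comp, Category.assoc, hψ, hρ]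
          exact hleft)
      exact AlgHom.ext fun r => congr($(h2) r)
    have hg' : gA A ⟨φA, hresφ⟩ = g := Over.OverMorphism.ext hψ
    exact ⟨⟨φA, hresφ⟩, Subtype.ext (by show ((Over.mk xX ◁ gA A ⟨φA, hresφ⟩) ≫ υ).left = _; rw [hg', hg]; rfl)⟩
  · show ((Over.mk xX ◁ gA B (ArtFun.HomSet.map μ φ)) ≫ υ).left =
      ArtFun.Art.XAmap xX μ ≫ ((Over.mk xX ◁ gA A φ) ≫ υ).left
    let t : T B ⟶ T A := Over.homMk (ArtFun.Art.specMap μ) (ArtFun.Art.specOver_comp μ)
    have ht : gA B (ArtFun.HomSet.map μ φ) = t ≫ gA A φ := Over.OverMorphism.ext (by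
      show Spec.map _ ≫ _ = Spec.map _ ≫ Spec.map _ ≫ _
      rw [← Category.assoc, ← Spec.map_comp]
      rfl)
    rw [ht, MonoidalCategory.whiskerLeft_comp_assoc]
    rfl

end HomTanLib
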