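import Groth.Agent.HomTanLib.Point
import Groth.Agent.HilbGlueLib.TangentDim
import Groth.Agent.PnDualLib.HomExt
import Groth.Agent.HomCohLib.Adj

/-!
# The tangent space of a scheme of morphisms
-/

set_option autoImplicit false
set_option linter.style.haveILetI false
set_option linter.unusedSectionVars false
set_option backward.isDefEq.respectTransparency false
set_option backward.isDefEq.respectTransparency.types false
set_option maxHeartbeats 1000000
universe u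

open CategoryTheory CategoryTheory.Limits MonoidalCategory CartesianMonoidalCategory AlgebraicGeometry Opposite
open IsLocalRing
open HilbObsLib (str sB)
open HilbGlueLib (up red emb gmap kst D eps E exists_coeff gmap_emb gmap_sB map_up red_gmap)

noncomputable section

namespace HomTanLib

variable {k : Type u} [Field k] {X Y : Scheme.{u}} {x : X ⟶ ArtFun.Art.specPt k} {yY : Y ⟶ ArtFun.Art.specPt k}
  {f : X ⟶ Y}

theorem gmap_plus_add {V : X.affineOpens} {q : Γ(ArtFun.Art.XA x (ArtFun.Art.dual2 k k), (up x _ V).1)}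
    (hq : q ∈ (maximalIdeal (ArtFun.Art.dual2 k k)).map (sB x (up x (ArtFun.Art.dual2 k k) V).1)) :
    gmap x ArtFun.Art.plus V q = gmap x ArtFun.Art.pr₁ V q + gmap x ArtFun.Art.pr₂ V q := by
  refine Submodule.span_induction ?_ ?_ ?_ ?_ hq
  · rintro _ ⟨c, hc, rfl⟩
    rw [gmap_sB, gmap_sB, gmap_sB, HilbGlueLib.plus_apply hc, map_add]
  · rw [map_zero, map_zero, map_zero, add_zero]
  · intro a b _ _ ha hb
    rw [map_add, map_add, map_add, ha, hb]
    ring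
  · intro r a hr ha
    have hmul : ∀ g : ArtFun.Art.dual2 k k ⟶ D k, gmap x g V (r * a) =
        emb x (D k) V (red x _ V r) * gmap x g V a := fun g => by
      have hgm : gmap x g V a ∈ (maximalIdeal (D k)).map (sB x (up x (D k) V).1) := by
        rw [← HilbGlueLib.ker_red, RingHom.mem_ker, red_gmap]
        exact RingHom.mem_ker.1 ((HilbGlueLib.ker_red x _ V).ge hr)
      rw [HilbGlueLib.mP_eq] at hgm
      obtain ⟨d, hd⟩ := Ideal.mem_span_singleton'.1 hgm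
      rw [map_mul, ← hd, ← red_gmap x g V r]
      linear_combination d * HilbGlueLib.E_mul_emb_red x V (gmap x g V r)
    rw [smul_eq_mul, hmul, hmul, hmul, ha]
    ring

theorem up_le {A : ArtFun.Art k k} {φ : ArtFun.Art.XA x A ⟶ Y} (hφ : ArtFun.Art.XAincl x A ≫ φ = f)
    {W : Y.Opens} {V : X.affineOpens} (hV : V.1 ≤ f ⁻¹ᵁ W) : (up x A V).1 ≤ φ ⁻¹ᵁ W := by
  intro q hq
  obtain ⟨a, rfl⟩ := HilbObsLib.surjective_incl x A q
  have ha : a ∈ V.1 := (HilbGlueLib.incl_up_eq x A V).le hq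
  show φ (ArtFun.Art.XAincl x A a) ∈ W
  rw [← Scheme.Hom.comp_apply, hφ]
  exact hV ha

/-- The coefficient of a morphism out of the deformation along `μ`. -/
theorem cfU_ev_map {A : ArtFun.Art k k} (μ : A ⟶ D k) {φ : ArtFun.Art.XA x A ⟶ Y}
    (hφ : ArtFun.Art.XAincl x A ≫ φ = f) (ψ : Def1 x yY f) (hψ : ψ.1 = ArtFun.Art.XAmap x μ ≫ φ)
    {W : Y.Opens} {V : X.affineOpens} (hV : V.1 ≤ f ⁻¹ᵁ W) (s : Γ(Y, W)) :
    X.presheaf.map (homOfLE hV).op (cfU x (f ⁻¹ᵁ W) (ev ψ W s)) =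
      cfU x V.1 (gmap x μ V ((φ.appLE W (up x A V).1 (up_le hφ hV)).hom s)) := by
  rw [cfU_res x hV]
  refine congrArg (cfU x V.1) ?_
  have e : ψ.1.appLE W (pre x (f ⁻¹ᵁ W)) (le_preimage ψ W) ≫
      (ArtFun.Art.XA x (D k)).presheaf.map (homOfLE (pre_mono x hV)).op =
        φ.appLE W (up x A V).1 (up_le hφ hV) ≫
          (ArtFun.Art.XAmap x μ).appLE (up x A V).1 (up x (D k) V).1 (map_up x μ V) := by
    rw [Scheme.Hom.appLE_map, Scheme.Hom.appLE_comp_appLE]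
    simp only [hψ]
    rfl
  exact congr($(e) s)

theorem cfU_emb (V : X.affineOpens) (a : Γ(X, V.1)) : cfU x V.1 (emb x (D k) V a) = 0 := cfU_emU x V.1 a

theorem cfU_gmap_sub {A : ArtFun.Art k k} (μ : A ⟶ D k) (V : X.affineOpens)
    (p : Γ(ArtFun.Art.XA x A, (up x A V).1)) :
    cfU x V.1 (gmap x μ V p) = cfU x V.1 (gmap x μ V (p - emb x A V (red x A V p))) := by
  rw [map_sub, gmap_emb, map_sub, cfU_emb, sub_zero]

theorem ev_plus {φ : ArtFun.Art.XA x (ArtFun.Art.dual2 k k) ⟶ Y} (hφ : ArtFun.Art.XAincl x _ ≫ φ = f)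
    {ψ ψ₁ ψ₂ : Def1 x yY f} (h : ψ.1 = ArtFun.Art.XAmap x ArtFun.Art.plus ≫ φ)
    (h₁ : ψ₁.1 = ArtFun.Art.XAmap x ArtFun.Art.pr₁ ≫ φ) (h₂ : ψ₂.1 = ArtFun.Art.XAmap x ArtFun.Art.pr₂ ≫ φ)
    (W : Y.Opens) (s : Γ(Y, W)) :
    cfU x (f ⁻¹ᵁ W) (ev ψ W s) = cfU x (f ⁻¹ᵁ W) (ev ψ₁ W s) + cfU x (f ⁻¹ᵁ W) (ev ψ₂ W s) := by
  refine ext_affine fun V hV => ?_
  rw [map_add, cfU_ev_map _ hφ ψ h hV, cfU_ev_map _ hφ ψ₁ h₁ hV, cfU_ev_map _ hφ ψ₂ h₂ hV,
    cfU_gmap_sub ArtFun.Art.plus, cfU_gmap_sub ArtFun.Art.pr₁, cfU_gmap_sub ArtFun.Art.pr₂,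
    gmap_plus_add (HilbGlueLib.sub_emb_red_mem x _ V _), map_add]

theorem ev_scale (c : k) {ψ ψ₁ : Def1 x yY f} (h : ψ.1 = ArtFun.Art.XAmap x (ArtFun.Art.scale c) ≫ ψ₁.1)
    (W : Y.Opens) (s : Γ(Y, W)) (V : X.affineOpens) (hV : V.1 ≤ f ⁻¹ᵁ W) :
    X.presheaf.map (homOfLE hV).op (cfU x (f ⁻¹ᵁ W) (ev ψ W s)) =
      kst x V.1 c * X.presheaf.map (homOfLE hV).op (cfU x (f ⁻¹ᵁ W) (ev ψ₁ W s)) := by
  have hid : ψ₁.1 = ArtFun.Art.XAmap x (𝟙 (D k)) ≫ ψ₁.1 := by rw [ArtFun.Art.XAmap_id, Category.id_comp]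
  rw [cfU_ev_map _ ψ₁.2.2 ψ h hV, cfU_ev_map _ ψ₁.2.2 ψ₁ hid hV]
  generalize ((ψ₁.1.appLE W (up x (D k) V).1 (up_le ψ₁.2.2 hV)).hom s) = p
  have hgid : gmap x (𝟙 (D k)) V p = p := by
    have e : (ArtFun.Art.XAmap x (𝟙 (D k))).appLE (up x (D k) V).1 (up x (D k) V).1 (map_up x _ V) = 𝟙 _ := by
      simp only [ArtFun.Art.XAmap_id]
      exact (Scheme.Hom.app_eq_appLE (f := 𝟙 (ArtFun.Art.XA x (D k))) (U := (up x (D k) V).1)).symm.trans rfl
    exact congr($(e) p)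
  rw [hgid]
  obtain ⟨b, hb⟩ := exists_coeff x V p
  rw [cfU_affine x V hb]
  conv_lhs => rw [hb]
  rw [map_add, map_mul, gmap_emb, gmap_emb, E, gmap_sB, HilbGlueLib.scale_eps, map_mul,
    HilbGlueLib.sB_algebraMap, map_add, cfU_emb, zero_add]
  refine cfU_affine x V ?_
  show emb x (D k) V _ * E x V * _ = emb x (D k) V (red x (D k) V (emb x (D k) V _ * E x V * _)) + _
  rw [map_mul (red x (D k) V), map_mul (red x (D k) V), HilbGlueLib.red_E, mul_zero, zero_mul, map_zero, zero_add,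
    map_mul (emb x (D k) V)]
  ring

theorem res_toGlobal [Y.Over (Spec (CommRingCat.of k))] (hy : Y ↘ Spec (CommRingCat.of k) = yY) (hf : f ≫ yY = x)
    (W : Y.Opens) (c : k) (V : X.affineOpens) (hV : V.1 ≤ f ⁻¹ᵁ W) :
    X.presheaf.map (homOfLE hV).op (f.app W
      (Y.presheaf.map (homOfLE (le_top : W ≤ ⊤)).op (Coh.toGlobal (A := k) (Y ↘ Spec (CommRingCat.of k)) c))) =
      kst x V.1 c := by
  rw [hy]
  have e : yY.appTop ≫ Y.presheaf.map (homOfLE (le_top : W ≤ ⊤)).op ≫ f.app W ≫ X.presheaf.map (homOfLE hV).op =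
      x.appLE ⊤ V.1 le_top := by
    rw [show yY.appTop = yY.app ⊤ from rfl, ← Category.assoc, ← Scheme.Hom.appLE, ← Scheme.Hom.appLE,
      Scheme.Hom.appLE_comp_appLE]
    simp only [hf]
  exact congr($(e) ((Scheme.ΓSpecIso (CommRingCat.of k)).inv c))

theorem finrank_cotangent [X.Over (Spec (CommRingCat.of k))] [Y.Over (Spec (CommRingCat.of k))]
    [QuasiSeparated (Y ↘ Spec (CommRingCat.of k))]
    (M : Over (Spec (CommRingCat.of k)))
    (υ : Over.mk (X ↘ Spec (CommRingCat.of k)) ⊗ M ⟶ Over.mk (Y ↘ Spec (CommRingCat.of k)))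
    (hM : ∀ (T : Over (Spec (CommRingCat.of k)))
      (φ : Over.mk (X ↘ Spec (CommRingCat.of k)) ⊗ T ⟶ Over.mk (Y ↘ Spec (CommRingCat.of k))),
      ∃! a : T ⟶ M, (Over.mk (X ↘ Spec (CommRingCat.of k)) ◁ a) ≫ υ = φ)
    (f : X ⟶ Y) (hf : f ≫ (Y ↘ Spec (CommRingCat.of k)) = X ↘ Spec (CommRingCat.of k))
    (af : 𝟙_ (Over (Spec (CommRingCat.of k))) ⟶ M)
    (haf : (Over.mk (X ↘ Spec (CommRingCat.of k)) ◁ af) ≫ υ =
      (ρ_ (Over.mk (X ↘ Spec (CommRingCat.of k)))).hom ≫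
        (Over.homMk f hf : Over.mk (X ↘ Spec (CommRingCat.of k)) ⟶ Over.mk (Y ↘ Spec (CommRingCat.of k))))
    [DCoh.HasSheafHom ((Scheme.Modules.pullback f).obj (Omega.sheaf (Y ↘ Spec (CommRingCat.of k))))] :
    Module.finrank (ResidueField (M.left.presheaf.stalk (af.left.base (IsLocalRing.closedPoint k))))
        (CotangentSpace (M.left.presheaf.stalk (af.left.base (IsLocalRing.closedPoint k)))) =
      Module.finrank k (Coh.HH X ((DCoh.sheafHom ((Scheme.Modules.pullback f).obj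
        (Omega.sheaf (Y ↘ Spec (CommRingCat.of k))))).obj (Coh.structureModule X)) 0) := by
  let xX := X ↘ Spec (CommRingCat.of k)
  let yk := Y ↘ Spec (CommRingCat.of k)
  obtain ⟨alg, res, h, hbij, hnat⟩ := exists_points xX yk M υ hM f hf af haf
  letI := alg
  let R := M.left.presheaf.stalk (af.left.base (IsLocalRing.closedPoint k))
  let P := (Scheme.Modules.pushforward f).obj (Coh.structureModule X)
  let u : (Omega.sheaf yk ⟶ P) → OmegaSh.Der yk P := fun α => (OmegaSh.dOmega yk).postcomp α.val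
  have hu : Function.Bijective u :=
    ⟨fun α β e => ((OmegaAffLib.isUniversal_dOmega (f := yk)) P (u α)).unique rfl e.symm,
      fun Dr => (OmegaAffLib.isUniversal_dOmega (f := yk) P Dr).exists⟩
  let δ : Module.Dual k (maximalIdeal R).Cotangent → OmegaSh.Der yk P :=
    fun g => derOf (x := xX) (yY := yk) (f := f) (h (D k) (HilbGlueLib.ptD res g))
  have hδbij : Function.Bijective δ :=
    (derOf_bijective hf).comp ((hbij (D k)).comp HilbGlueLib.ptD_bijective)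
  let Ψ₀ : Module.Dual k (maximalIdeal R).Cotangent → (Omega.sheaf yk ⟶ P) :=
    fun g => (Equiv.ofBijective u hu).symm (δ g)
  have hΨ : ∀ g, u (Ψ₀ g) = δ g := fun g => (Equiv.ofBijective u hu).apply_symm_apply (δ g)
  have hval : ∀ g (W : Y.Opens) (s : Γ(Y, W)),
      OmegaSh.fnSect X (f ⁻¹ᵁ W) ((Ψ₀ g).app W (OmegaSh.dSect yk W s)) =
        cfU xX (f ⁻¹ᵁ W) (ev (h (D k) (HilbGlueLib.ptD res g)) W s) := fun g W s =>
    congrArg (fun d : OmegaSh.Der yk P => OmegaSh.fnSect X (f ⁻¹ᵁ W) (d.app W s)) (hΨ g)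
  have hext : ∀ α β : Omega.sheaf yk ⟶ P, (∀ (W : Y.Opens) (s : Γ(Y, W)),
      OmegaSh.fnSect X (f ⁻¹ᵁ W) (α.app W (OmegaSh.dSect yk W s)) =
        OmegaSh.fnSect X (f ⁻¹ᵁ W) (β.app W (OmegaSh.dSect yk W s))) → α = β := fun α β e => hu.1 (by
    refine PresheafOfModules.Derivation.ext ?_
    ext W s
    exact e W.unop s)
  let Ψ : Module.Dual k (maximalIdeal R).Cotangent →ₗ[k] (Omega.sheaf yk ⟶ P) :=
    { toFun := Ψ₀
      map_add' := fun g g' => hext _ _ fun W s => by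
        show _ = OmegaSh.fnSect X (f ⁻¹ᵁ W) ((Ψ₀ g).app W _ + (Ψ₀ g').app W _)
        refine Eq.trans ?_ (map_add (OmegaSh.fnSect X (f ⁻¹ᵁ W)) _ _).symm
        rw [hval, hval, hval]
        exact ev_plus (h _ (HilbGlueLib.ptD2 res g g')).2.2
          (by rw [HilbGlueLib.ptD2_plus]; exact hnat _ _)
          (by rw [HilbGlueLib.ptD2_pr₁ g g']; exact hnat _ _)
          (by rw [HilbGlueLib.ptD2_pr₂ g g']; exact hnat _ _) W s
      map_smul' := fun c g => hext _ _ fun W s => by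
        rw [RingHom.id_apply, KLin.smul_app_apply]
        show OmegaSh.fnSect X (f ⁻¹ᵁ W) ((Ψ₀ (c • g)).app W (OmegaSh.dSect yk W s)) = @HMul.hMul Γ(X, f ⁻¹ᵁ W) Γ(X, f ⁻¹ᵁ W) Γ(X, f ⁻¹ᵁ W) _ ((f.app W).hom _)
          (OmegaSh.fnSect X (f ⁻¹ᵁ W) ((Ψ₀ g).app W (OmegaSh.dSect yk W s)))
        rw [hval, hval]
        refine ext_affine fun V hV => ?_
        rw [map_mul]
        refine (ev_scale c ?_ W s V hV).trans (congrArg (· * _) (res_toGlobal rfl hf W c V hV).symm)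
        rw [HilbGlueLib.ptD_smul]
        exact hnat _ _ }
  have hΨbij : Function.Bijective Ψ := (Equiv.ofBijective u hu).symm.bijective.comp hδbij
  haveI : f.IsOver (Spec (CommRingCat.of k)) := ⟨hf⟩
  let ea := (Scheme.Modules.pullbackPushforwardAdjunction f).homEquiv (Omega.sheaf yk) (Coh.structureModule X)
  let el : ((Scheme.Modules.pullback f).obj (Omega.sheaf yk) ⟶ Coh.structureModule X) ≃ₗ[k]
      (Omega.sheaf yk ⟶ P) :=
    { ea with
      map_add' := fun a b => by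
        show ea (a + b) = ea a + ea b
        simp only [ea, Adjunction.homEquiv_unit, Functor.map_add, Preadditive.comp_add]
      map_smul' := fun c a => by
        show ea (c • a) = c • ea a
        simp only [ea, Adjunction.homEquiv_unit, Functor.map_smul, Linear.comp_smul] }
  rw [HilbGlueLib.finrank_residue res, ← Subspace.dual_finrank_eq, (LinearEquiv.ofBijective Ψ hΨbij).finrank_eq,
    ← el.finrank_eq]
  exact (PnDualLib.homH0 k _ (Coh.structureModule X) ≪≫ₗ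
    PnDualLib.hMapIso (k := k) (HomCohLib.sheafHomIso ((Scheme.Modules.pullback f).obj (Omega.sheaf yk))
      (Coh.structureModule X)).symm 0).finrank_eq

end HomTanLib
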